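import Cfsg.Agent.Lib.Sporadic.M24Gen
import Cfsg.Agent.Lib.Sporadic.MathieuPrimeElements

/-!
# An element of order twenty-one in the Mathieu group of degree 24 (owner: helper17)
-/

set_option autoImplicit false

namespace CfsgLib.JankoFourSeven

open Cfsg CfsgLib.Sporadic

/-- A packed automorphism of the code of order twenty-one. -/
def pTwentyOne : ℕ := 29953678248317272040559433275358667

theorem pTwentyOne_ok : isAut pTwentyOne = true ∧ Nat.beq (ppow pTwentyOne 21) pone = true ∧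
    forallLt 24 (fun i => Nat.beq (pget (ppow pTwentyOne 7) i) i) = false ∧
    forallLt 24 (fun i => Nat.beq (pget (ppow pTwentyOne 3) i) i) = false := by
  decide +kernel

theorem exists_order_twenty_one : ∃ x : ↥M24, x ^ 21 = 1 ∧ x ^ 7 ≠ 1 ∧ x ^ 3 ≠ 1 := by
  obtain ⟨ha, h21, h7, h3⟩ := pTwentyOne_ok
  obtain ⟨σ, hσ, hr⟩ := exists_mem_M24 ha
  have hne : ∀ k, forallLt 24 (fun i => Nat.beq (pget (ppow pTwentyOne k) i) i) = false → (⟨σ, hσ⟩ : ↥M24) ^ k ≠ 1 := by
    intro k hk e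
    have e' : σ ^ k = 1 := congrArg Subtype.val e
    have hrk := rep_pow hr k
    rw [e'] at hrk
    rw [Bool.eq_false_iff, ne_eq, forallLt_iff] at hk
    refine hk fun i hi => ?_
    rw [Nat.beq_eq]
    have := hrk (pt i)
    rwa [ix_pt hi, Equiv.Perm.one_apply, ix_pt hi] at this
  exact ⟨⟨σ, hσ⟩, pow_eq_one_of_ppow hr h21, hne 7 h7, hne 3 h3⟩

end CfsgLib.JankoFourSeven
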